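import Groth.Prelude.Def_AnCl
import Mathlib.CategoryTheory.Sites.DenseSubsite.SheafEquiv

universe u

open CategoryTheory TopologicalSpace Topology Opposite

namespace Groth.Agent.AnClassical

variable {T : Type u} [TopologicalSpace T]

lemma hom_opens_ext {B : An.Cl T} {U : Opens T} (f g : B ⟶ (An.opensToCl T).obj U) : f = g :=
  An.Cl.hom_ext (funext fun b => Subtype.ext ((f.over b).trans (g.over b).symm))

instance opensToCl_faithful : (An.opensToCl T).Faithful := ⟨fun _ => Subsingleton.elim _ _⟩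

instance opensToCl_full : (An.opensToCl T).Full := ⟨fun {U V} g => by
  refine ⟨homOfLE fun x hx => ?_, hom_opens_ext _ _⟩
  have h := g.over (⟨x, hx⟩ : U)
  have h2 : ((An.opensToCl T).obj V).p (g.toFun ⟨x, hx⟩) ∈ (V : Set T) :=
    Subtype.mem (g.toFun ⟨x, hx⟩)
  exact (congrArg (· ∈ (V : Set T)) h).mp h2⟩

lemma isCoverDense : (An.opensToCl T).IsCoverDense (An.Cl.topology T) := by
  refine ⟨fun A a => ?_⟩
  obtain ⟨e, ha, he⟩ := A.lh a
  let U : Opens T := ⟨e.target, e.open_target⟩
  let g : (An.opensToCl T).obj U ⟶ A :=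
    { toFun := fun u => e.symm u.1
      continuous := e.continuousOn_symm.domRestrict
      over := fun u => by
        change A.p (e.symm u.1) = u.1
        rw [he]
        exact e.right_inv u.2 }
  refine ⟨_, g, ⟨⟨U, 𝟙 _, g, Category.id_comp _⟩⟩, ?_, ?_⟩
  · have : g.toFun = Subtype.val ∘ (e.toHomeomorphSourceTarget.symm : e.target → e.source) := by
      funext u; rfl
    rw [this]
    exact e.open_source.isOpenEmbedding_subtypeVal.comp (Homeomorph.isOpenEmbedding _)
  · refine ⟨⟨e a, e.map_source ha⟩, ?_⟩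
    exact e.left_inv ha

instance isDenseSubsite :
    (An.opensToCl T).IsDenseSubsite (Opens.grothendieckTopology T) (An.Cl.topology T) where
  isCoverDense' := isCoverDense
  functorPushforward_mem_iff {U S} := by
    constructor
    · intro h x hx
      obtain ⟨B, g, ⟨V, f, k, hS, hg⟩, -, b, hb⟩ := h (⟨x, hx⟩ : U)
      refine ⟨V, f, hS, ?_⟩
      have h1 : g.toFun b = Set.inclusion f.le (k.toFun b) := by rw [hg]; rfl
      have h2 := congrArg Subtype.val (h1.symm.trans hb)
      have h3 : ((An.opensToCl T).obj V).p (k.toFun b) = x := h2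
      exact h3 ▸ Subtype.mem (k.toFun b)
    · intro h x
      obtain ⟨V, f, hS, hxV⟩ := h x.1 x.2
      refine ⟨(An.opensToCl T).obj V, (An.opensToCl T).map f, ⟨V, f, 𝟙 _, hS, (Category.id_comp _).symm⟩,
        ?_, ⟨⟨x.1, hxV⟩, rfl⟩⟩
      exact IsOpenEmbedding.of_comp _ U.2.isOpenEmbedding_subtypeVal V.2.isOpenEmbedding_subtypeVal

end Groth.Agent.AnClassical
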